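-- Team project OTSM (S5987): minus-type orthogonal groups on totally singular m-spaces, ALL q.
-- Interface file of the r odd part (helper31).  It mirrors helper99's OTSP interface
-- (Cfsg/Agent/Lib/Helper99/OTSP/Defs.lean), whose form-generic packages are reused verbatim.
-- Everything is stated for `Cfsg.quadFormMinus k F a b` on `MI k = (Fin k ⊕ Fin k) ⊕ Fin 2`
-- (dimension `2 k + 2`; in S5987 `k = d - 1`).
import Mathlib
import Cfsg.Agent.Lib.Helper31.OTSM.TwoDefs
import Cfsg.Agent.Lib.Helper99.OTSP.Defs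

set_option autoImplicit false
open scoped MatrixGroups
open Matrix

namespace Cfsg.Agent.Lib.Helper31.OTSM

open Cfsg.Agent.Lib.Helper23.OHyp Cfsg.Agent.Lib.Helper64.OParM Cfsg.Agent.Lib.Helper99.OTSP

universe u

/-- `i` odd, `dim N = 2 i j`, `V` of minus type of dimension `2 d`: an invariant t.s. `m`-space
exists iff this holds (`C` is of minus type, Witt index `d - i j - 1`). -/
def CondOddM (i m d j : ℕ) : Prop := ∃ s, s ≤ j ∧ i * s ≤ m ∧ m - i * s + 1 + i * j ≤ d

/-- `i` even, `dim N = i j`, invariant t.s. subspaces of `N` of dimensions `i s`, `s ≤ S`; `V` of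
minus type (`C` is of minus type iff `j` is even). -/
def CondEvM (i m d j S : ℕ) : Prop :=
  ∃ s, s ≤ S ∧ i * s ≤ m ∧ 2 * (m - i * s) + (if Even j then 2 else 0) ≤ 2 * d - i * j

/-- `i` odd: every element fixes a t.s. `m`-space. -/
def AllOddM (i m d : ℕ) : Prop := ∀ j, 1 ≤ j → i * j + 1 ≤ d → CondOddM i m d j

/-- `i` even: every element fixes a t.s. `m`-space (`t` isomorphism types of blocks). -/
def AllEvM (i m d t : ℕ) : Prop :=
  ∀ j, 1 ≤ j → i * j ≤ 2 * d → (i * j = 2 * d → Odd j) → CondEvM i m d j ((j + 1 - t) / 2)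

/-! ## Level 0: the packages used by the final assembly -/

/-- [PCNTM] the characteristic does not divide the number of t.s. `m`-spaces (`m ≤ k`). -/
def PkgPCntM : Prop :=
  ∀ (F : Type u) [Field F] [Fintype F] (p : ℕ) [Fact p.Prime] [CharP F p] (k m : ℕ) (a b : F),
    Aniso a b → m ≤ k →
    ¬ p ∣ Nat.card {W : Submodule F (MI k → F) //
      Module.finrank F ↥W = m ∧
        Cfsg.Geo.IsTotallySingularQuad (Cfsg.quadFormMinus k F a b) W}

/-- [DVDM] a prime dividing the number of t.s. `m`-spaces divides some `q^(k+1-j) + 1` or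
`q^(k-j) - 1`, `j < m`. -/
def PkgDvdM : Prop :=
  ∀ (F : Type u) [Field F] [Fintype F] (k m r : ℕ) (a b : F), Aniso a b → r.Prime → m ≤ k →
    r ∣ Nat.card {W : Submodule F (MI k → F) //
      Module.finrank F ↥W = m ∧
        Cfsg.Geo.IsTotallySingularQuad (Cfsg.quadFormMinus k F a b) W} →
    ∃ j, j < m ∧ (r ∣ Fintype.card F ^ (k + 1 - j) + 1 ∨ r ∣ Fintype.card F ^ (k - j) - 1)

/-- [REDM] reduction from `x ∈ Ω`, `x ^ r` scalar, `x` not scalar to isometries `y ≠ 1` with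
`y ^ r = 1` (`r` an odd prime, `3 ≤ k`; all characteristics). -/
def PkgRedM : Prop :=
  ∀ (F : Type u) [Field F] [Fintype F] (k m r : ℕ) (a b : F), Aniso a b → r.Prime → r ≠ 2 →
    3 ≤ k →
    ((∀ x : GL (MI k) F, x ∈ Cfsg.Geo.omegaGL (Cfsg.quadFormMinus k F a b) →
        (∃ z : F, ((x ^ r : GL (MI k) F) : Matrix (MI k) (MI k) F) =
          z • (1 : Matrix (MI k) (MI k) F)) →
        (∀ z : F, (x : Matrix (MI k) (MI k) F) ≠ z • (1 : Matrix (MI k) (MI k) F)) →
        FixTS (Cfsg.quadFormMinus k F a b) m (x : Matrix (MI k) (MI k) F)) ↔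
      (∀ y : GL (MI k) F, y ∈ Cfsg.isometryGroup F (Cfsg.quadFormMinus k F a b) →
        y ^ r = 1 → y ≠ 1 →
        FixTS (Cfsg.quadFormMinus k F a b) m (y : Matrix (MI k) (MI k) F)))

/-- [ALLODDM] `i` odd: all isometries of order `r` fix a t.s. `m`-space iff `AllOddM`. -/
def PkgAllOddM : Prop :=
  ∀ (F : Type u) [Field F] [Fintype F] (k m r : ℕ) (a b : F), Aniso a b → r.Prime → r ≠ 2 →
    ¬ r ∣ Fintype.card F → Odd (ordI (Fintype.card F) r) →
    ((∀ y : GL (MI k) F, y ∈ Cfsg.isometryGroup F (Cfsg.quadFormMinus k F a b) →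
        y ^ r = 1 → y ≠ 1 →
        FixTS (Cfsg.quadFormMinus k F a b) m (y : Matrix (MI k) (MI k) F)) ↔
      AllOddM (ordI (Fintype.card F) r) m (k + 1))

/-- [ALLEVM] `i` even: all isometries of order `r` fix a t.s. `m`-space iff `AllEvM`. -/
def PkgAllEvM : Prop :=
  ∀ (F : Type u) [Field F] [Fintype F] (k m r : ℕ) (a b : F), Aniso a b → r.Prime → r ≠ 2 →
    ¬ r ∣ Fintype.card F → Even (ordI (Fintype.card F) r) →
    ((∀ y : GL (MI k) F, y ∈ Cfsg.isometryGroup F (Cfsg.quadFormMinus k F a b) →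
        y ^ r = 1 → y ≠ 1 →
        FixTS (Cfsg.quadFormMinus k F a b) m (y : Matrix (MI k) (MI k) F)) ↔
      AllEvM (ordI (Fintype.card F) r) m (k + 1) ((r - 1) / ordI (Fintype.card F) r))

/-- [NUMOD1M] arithmetic, `i ≤ m`. -/
def PkgNumOd1M : Prop :=
  ∀ (i m d : ℕ), 1 ≤ i → i ≤ m → m + 1 ≤ d →
    (AllOddM i m d ↔ ((2 * d) % (2 * i) = 0 ∨ 2 * (m % i) < (2 * d) % (2 * i)))

/-- [NUMOD2M] arithmetic, `m < i`: a multiple of `i` in `(d - 1 - m, d - 1]` gives a
derangement. -/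
def PkgNumOd2M : Prop :=
  ∀ (i m d e : ℕ), 1 ≤ i → 1 ≤ m → m < i → m + 1 ≤ d → d - 1 - m < e → e + 1 ≤ d → i ∣ e →
    ¬ AllOddM i m d

/-- [NUMEV1M] arithmetic, `i` even, `i ≤ m`. -/
def PkgNumEv1M : Prop :=
  ∀ (i m d t : ℕ), Even i → 2 ≤ i → i ≤ m → m + 1 ≤ d → 1 ≤ t →
    (AllEvM i m d t ↔
      (t + 2 * (m / i) ≤ (2 * d) / i ∧
        ((2 * (m % i) ≤ i ∧ (2 * d) % i = 0 ∧ Even ((2 * d) / i) ∧ t + 2 * (m / i) < (2 * d) / i) ∨
         (2 * (m % i) ≤ (2 * d) % i ∧ Odd ((2 * d) / i)) ∨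
         (2 * (m % i) < (2 * d) % i ∧ Even ((2 * d) / i)))))

/-- [NUMEV2M] arithmetic, `i` even, `m < i`. -/
def PkgNumEv2M : Prop :=
  ∀ (i m d t : ℕ), Even i → 2 ≤ i → 1 ≤ m → m < i → m + 1 ≤ d → 1 ≤ t →
    ((∃ e, d - 1 - m < e ∧ e + 1 ≤ d ∧ i ∣ e) ∨ (∃ e, d - m < e ∧ e ≤ d ∧ e % i = i / 2)) →
    ¬ AllEvM i m d t

/-! ## Level 1: generic geometry in a space NOT of plus type (any finite index type, any
nondegenerate `Q`, ALL characteristics) -/

/-- [WCMA] `V` even-dimensional, not of plus type, `V = C ⊥ N`, `N` of plus type: the totally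
singular subspaces of `C` have exactly the dimensions `e` with `2 e + 2 ≤ dim C`. -/
def PkgWCMa : Prop :=
  ∀ (F : Type u) [Field F] [Fintype F] (ι : Type) [Fintype ι] [DecidableEq ι]
    (Q : (ι → F) → F), Cfsg.Geo.IsNondegenerateQuadraticForm Q → ¬ Plus Q ⊤ →
    Even (Fintype.card ι) →
    ∀ C N : Submodule F (ι → F), Perp Q C N → IsCompl C N → Plus Q N →
    (∀ U : Submodule F (ι → F), U ≤ C → TS Q U →
      2 * Module.finrank F U + 2 ≤ Module.finrank F C) ∧
    (∀ e : ℕ, 2 * e + 2 ≤ Module.finrank F C →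
      ∃ U : Submodule F (ι → F), U ≤ C ∧ TS Q U ∧ Module.finrank F U = e)

/-- [WCMB] `V` even-dimensional, not of plus type, `V = C ⊥ N`, `N` even-dimensional not of plus
type: `C` has totally singular subspaces of every dimension `e` with `2 e ≤ dim C`. -/
def PkgWCMb : Prop :=
  ∀ (F : Type u) [Field F] [Fintype F] (ι : Type) [Fintype ι] [DecidableEq ι]
    (Q : (ι → F) → F), Cfsg.Geo.IsNondegenerateQuadraticForm Q → ¬ Plus Q ⊤ →
    Even (Fintype.card ι) →
    ∀ C N : Submodule F (ι → F), Perp Q C N → IsCompl C N → ¬ Plus Q N →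
    Even (Module.finrank F N) →
    ∀ e : ℕ, 2 * e ≤ Module.finrank F C →
      ∃ U : Submodule F (ι → F), U ≤ C ∧ TS Q U ∧ Module.finrank F U = e

/-- [FIXODDM] `i` odd: the fixing criterion for one element. -/
def PkgFixOddM : Prop :=
  ∀ (F : Type u) [Field F] [Fintype F] (ι : Type) [Fintype ι] [DecidableEq ι]
    (Q : (ι → F) → F) (r : ℕ) (y : Matrix ι ι F), StdQ Q r y → ¬ Plus Q ⊤ →
    ∀ d : ℕ, Fintype.card ι = 2 * d → Odd (ordI (Fintype.card F) r) →
    ∃ j : ℕ, ordI (Fintype.card F) r * j + 1 ≤ d ∧ (y ≠ 1 → 1 ≤ j) ∧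
      Module.finrank F (movSp y) = 2 * (ordI (Fintype.card F) r * j) ∧
      ∀ m : ℕ, (FixTS Q m y ↔ CondOddM (ordI (Fintype.card F) r) m d j)

/-- [FIXEVM] `i` even: the fixing criterion for one element, relative to a bound `S` on the
invariant totally singular subspaces of `N`. -/
def PkgFixEvM : Prop :=
  ∀ (F : Type u) [Field F] [Fintype F] (ι : Type) [Fintype ι] [DecidableEq ι]
    (Q : (ι → F) → F) (r : ℕ) (y : Matrix ι ι F), StdQ Q r y → ¬ Plus Q ⊤ →
    ∀ d : ℕ, Fintype.card ι = 2 * d → Even (ordI (Fintype.card F) r) →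
    ∃ j : ℕ, ordI (Fintype.card F) r * j ≤ 2 * d ∧ (y ≠ 1 → 1 ≤ j) ∧
      (ordI (Fintype.card F) r * j = 2 * d → Odd j) ∧
      Module.finrank F (movSp y) = ordI (Fintype.card F) r * j ∧
      ∀ m S : ℕ,
        ((∀ L : Submodule F (ι → F), L ≤ movSp y → Inv y L → TS Q L →
            Module.finrank F L ≤ ordI (Fintype.card F) r * S) →
          FixTS Q m y → CondEvM (ordI (Fintype.card F) r) m d j S) ∧
        ((∀ s : ℕ, s ≤ S → ∃ L : Submodule F (ι → F), L ≤ movSp y ∧ Inv y L ∧ TS Q L ∧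
            Module.finrank F L = ordI (Fintype.card F) r * s) →
          CondEvM (ordI (Fintype.card F) r) m d j S → FixTS Q m y)

/-! ## Level 1: the minus form `quadFormMinus k F a b` -/

/-- [MINUSND] the minus form is a nondegenerate quadratic form (ALL characteristics). -/
def PkgMinusNd : Prop :=
  ∀ (F : Type u) [Field F] (k : ℕ) (a b : F), Aniso a b →
    Cfsg.Geo.IsNondegenerateQuadraticForm (Cfsg.quadFormMinus k F a b)

/-- [EXODDM] `i` odd: isometries of the minus form with `dim N = 2 i j`, `1 ≤ j`, `i j ≤ k`. -/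
def PkgExOddM : Prop :=
  ∀ (F : Type u) [Field F] [Fintype F] (k r j : ℕ) (a b : F), Aniso a b → r.Prime → r ≠ 2 →
    ¬ r ∣ Fintype.card F → Odd (ordI (Fintype.card F) r) → 1 ≤ j →
    ordI (Fintype.card F) r * j ≤ k →
    ∃ y : GL (MI k) F, y ∈ Cfsg.isometryGroup F (Cfsg.quadFormMinus k F a b) ∧ y ^ r = 1 ∧
      Module.finrank F (movSp (y : Matrix (MI k) (MI k) F)) =
        2 * (ordI (Fintype.card F) r * j)

/-- [SPREADM] `i` even: isometries of the minus form with `j` blocks (`1 ≤ j`, `i j ≤ 2 k + 2`,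
`j` odd if `i j = 2 k + 2`) whose invariant totally singular subspaces in `N` have dimension at
most `i ((j + 1 - t) / 2)`, `t = (r - 1) / i`. -/
def PkgSpreadM : Prop :=
  ∀ (F : Type u) [Field F] [Fintype F] (k r j : ℕ) (a b : F), Aniso a b → r.Prime → r ≠ 2 →
    ¬ r ∣ Fintype.card F → Even (ordI (Fintype.card F) r) → 1 ≤ j →
    ordI (Fintype.card F) r * j ≤ 2 * k + 2 →
    (ordI (Fintype.card F) r * j = 2 * k + 2 → Odd j) →
    ∃ y : GL (MI k) F, y ∈ Cfsg.isometryGroup F (Cfsg.quadFormMinus k F a b) ∧ y ^ r = 1 ∧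
      Module.finrank F (movSp (y : Matrix (MI k) (MI k) F)) = ordI (Fintype.card F) r * j ∧
      ∀ L : Submodule F (MI k → F), L ≤ movSp (y : Matrix (MI k) (MI k) F) →
        Inv (y : Matrix (MI k) (MI k) F) L → TS (Cfsg.quadFormMinus k F a b) L →
        Module.finrank F L ≤
          ordI (Fintype.card F) r * ((j + 1 - (r - 1) / ordI (Fintype.card F) r) / 2)

/-- [MINUSNDF] the minus form over a FINITE field is a nondegenerate quadratic form (ALL
characteristics).  USE THIS ONE: `PkgMinusNd` above is false over imperfect fields of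
characteristic 2 and is kept only because it was landed. -/
def PkgMinusNdF : Prop :=
  ∀ (F : Type u) [Field F] [Fintype F] (k : ℕ) (a b : F), Aniso a b →
    Cfsg.Geo.IsNondegenerateQuadraticForm (Cfsg.quadFormMinus k F a b)

end Cfsg.Agent.Lib.Helper31.OTSM
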